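import Cfsg.Agent.BZ.RT.Co2.Defs
import Cfsg.Agent.BZ.RT.Z2Par
import Cfsg.Agent.BZ.RT.Z2E7
import Cfsg.Agent.BZ.RT.Z2Rk

/-!
# BZ / RT (S4853) : the terminal case for the prime two, `W(E₆)` in `W(E₇)` (helper94)
-/

set_option autoImplicit false
set_option linter.unusedSectionVars false

namespace Cfsg.Agent.BZ.RT.Co2

open Cfsg Matrix Cfsg.Agent.DL Cfsg.Agent.HZ.L Cfsg.Agent.OM Cfsg.Agent.OM.Cu Cfsg.Agent.BZ.RT.Z2 Cfsg.Agent.BZ.RT.Z2.E7P
  Cfsg.Agent.BZ.RT.Z2.Rk47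

section Seven

variable {X V : Mat (Fin 7)}

theorem r7 : Cu.Rs E7 fun _ => 1 := boxRs _ _ c7

theorem wc_of_nm (h : Nm X (Rc E7)) : X ∈ Wc E7 := by
  obtain ⟨w, hw, π, h1, rfl⟩ := boxCh boxRs E7 _ X c7 h
  obtain rfl := Z2.autE7 π h1
  rwa [Cu.pm_one, mul_one]

theorem smul_wc (μ : ℤˣ) (h : X ∈ Wc E7) : (μ : ℤ) • X ∈ Wc E7 := by
  rcases Int.units_eq_one_or μ with rfl | rfl
  · rwa [Units.val_one, one_smul]
  · rw [Units.val_neg, Units.val_one, neg_one_smul]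
    exact wc_of_nm (Nm.neg r7.neg (r7.nm _ h))

theorem lev_u5 : lev (Rc E7) u5 = P6 := Set.ext fun a => and_congr_right fun ha => by
  obtain ⟨m, hm, e⟩ := r7.len a ha
  have h1 := e u5
  rw [fm_u5] at h1
  exact ⟨fun h => by rw [h, mul_zero] at h1; omega, fun h => by
    rw [h, mul_zero] at h1
    exact (mul_eq_zero.1 h1.symm).resolve_left hm.ne'⟩

theorem stab6 (h : X ∈ Wc E7) (e : X *ᵥ u5 = u5) : X ∈ WW P6 := lev_u5 ▸ ParT.stab c7 (fun i => by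
  rw [RsP.sp_dot, u5_mul]
  rw [Pi.single_apply]
  split_ifs <;> decide) h e

theorem fix6 (h : X ∈ WW P6) : X *ᵥ u5 = u5 := Perp.fix (fun _ ha => (lev_u5.ge ha).2) h

theorem sub6 (h : X ∈ WW P6) : X ∈ Wc E7 := r7.ww ▸ WW_mono (fun _ ha => ha.1) h

theorem sp6 {i : Fin 7} (h : i ≠ 5) : sp E7 i ∈ P6 := ⟨RsP.mem i, Pi.single_eq_of_ne h.symm _⟩

/-- the line which is orthogonal to `E₆` -/
theorem line (h : V ∈ Wc E7) (e : Perp P6 (V *ᵥ u5)) : ∃ ε : ℤˣ, (ε : ℤ) • V ∈ WW P6 := by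
  have h1 := r7.iso V h u5 u5
  have h2 : (2 : ℤ) • V *ᵥ u5 = ((V *ᵥ u5) ᵥ* E7) 5 • u5 := sub_eq_zero.1 (RsP.top₀ c7 (funext fun i => by
    rw [sub_vecMul, smul_vecMul, smul_vecMul, u5_mul]
    by_cases hi : i = 5
    · subst hi
      simp [mul_comm]
    · have := e _ (sp6 hi)
      rw [RsP.sp_dot] at this
      simp [this, hi]))
  generalize ((V *ᵥ u5) ᵥ* E7) 5 = t at h2
  have h3 := congrArg (fun v => fm E7 (fun _ => 1) v v) h2
  simp only [RsP.fm_smul, RsP.fm_smul', h1, fm_u5, show u5 5 = 3 from rfl] at h3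
  have h4 : ∀ ε : ℤˣ, t = 2 * ε → (ε : ℤ) • V ∈ WW P6 := fun ε e => stab6 (smul_wc ε h) (smul_right_injective _ (two_ne_zero' ℤ) (by
    simp only [smul_mulVec, smul_comm (2 : ℤ) (ε : ℤ), h2, e, smul_smul]
    rw [mul_left_comm, Int.units_coe_mul_self, mul_one]))
  rcases mul_eq_zero.1 (show (t - 2) * (t + 2) = 0 by linarith) with e | e
  · exact ⟨1, h4 1 (by simp; omega)⟩
  · exact ⟨-1, h4 (-1) (by simp; omega)⟩

theorem line' {U : Mat (Fin 7)} (h : V ∈ Wc E7) (hX : X ∈ WW P6) (e : V * X = U * V) (hn : ¬ Eig P6 U 1) :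
    ∃ ε : ℤˣ, (ε : ℤ) • V ∈ WW P6 := line h fun a ha => by
  by_contra h1
  refine hn ⟨fun i => ((V *ᵥ u5) i : ℂ), funext fun i => ?_, a, ha, fun h2 => h1 (Int.cast_injective (α := ℂ) ?_)⟩
  · rw [one_smul]
    refine (RingHom.map_mulVec (Int.castRingHom ℂ) U _ i).symm.trans ?_
    rw [mulVec_mulVec, ← e, ← mulVec_mulVec, fix6 hX]
    rfl
  · rw [Int.cast_zero, ← h2]
    simp [ev, dotProduct]

theorem neg6 : (-1 : Mat (Fin 7)) ∉ WW P6 := fun h => absurd (congrFun (fix6 h) 5) (by rw [neg_mulVec, one_mulVec]; decide)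

theorem det6 (h : X ∈ WW P6) : (X - 1).det = 0 :=
  exists_mulVec_eq_zero_iff.1 ⟨u5, fun e => absurd (congrFun e 5) (by decide), by rw [sub_mulVec, fix6 h, one_mulVec, sub_self]⟩

/-- an eigenvector on the line -/
theorem six_of {μ : ℤˣ} {y : Fin 7 → ℂ} (h : X ∈ Wc E7) (h1 : IsE X ((μ : ℤ) : ℂ) y) (h2 : ∀ a ∈ P6, ev a.1 y = 0) (h0 : y ≠ 0) :
    (μ : ℤ) • X ∈ WW P6 := by
  have k : ∀ (i) (z : Fin 7 → ℂ), ev (sp E7 i).1 z = (z ᵥ* E7.map (Int.cast : ℤ → ℂ)) i := fun i z => dotProduct_comm _ _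
  have k1 : ∀ i, ev (sp E7 i).1 (fun j => (u5 j : ℂ)) = (Pi.single 5 2 : Vec (Fin 7)) i := fun i => by
    rw [k, ← u5_mul]
    exact (RingHom.map_vecMul (Int.castRingHom ℂ) E7 u5 i).symm
  have h3 : (2 : ℂ) • y = ev (sp E7 5).1 y • fun j => (u5 j : ℂ) := sub_eq_zero.1 (eq_zero_of_vecMul_eq_zero
    (M := E7.map (Int.cast : ℤ → ℂ)) (fun e => RsP.det_ne c7 (Int.cast_injective (α := ℂ)
      (((Int.castRingHom ℂ).map_det E7).trans (e.trans Int.cast_zero.symm)))) (funext fun i => by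
    rw [← k, TrL.ev_sub, TrL.ev_smul, TrL.ev_smul, k1]
    by_cases hi : i = 5
    · subst hi
      simp [mul_comm]
    · simp [h2 _ (sp6 hi), hi]))
  generalize ev (sp E7 5).1 y = t at h3
  have h4 : t ≠ 0 := fun e => h0 (by rwa [e, zero_smul, smul_eq_zero_iff_right two_ne_zero] at h3)
  have h5 := congrArg (X.map (Int.cast : ℤ → ℂ) *ᵥ ·) h3
  simp only [mulVec_smul] at h5
  rw [h1, smul_comm, h3, smul_comm] at h5
  refine stab6 (smul_wc μ h) (funext fun i => Int.cast_injective (α := ℂ) ?_)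
  have h6 := (congrFun (smul_right_injective _ h4 h5) i).trans (RingHom.map_mulVec (Int.castRingHom ℂ) X u5 i).symm
  rw [smul_mulVec, Pi.smul_apply, smul_eq_mul, Int.cast_mul]
  refine (congrArg _ h6.symm).trans ?_
  rw [Pi.smul_apply, smul_eq_mul, ← mul_assoc, ← Int.cast_mul, Int.units_coe_mul_self, Int.cast_one, one_mul]

end Seven

section Tr

variable {R I : Type} [Fintype R] [DecidableEq R] [Fintype I] [DecidableEq I] {P : Matrix R I ℤ} {Φ : RS I} {Ψ : RS R}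
  {C A : Mat I} {d : I → ℤ} {A' : Mat R}

theorem det_blk {M : Mat R} {N : Mat I} (h : M * P = P * N) (Z : Matrix I R ℤ) :
    (M + P * Z).det * N.det = M.det * (N + Z * P).det := by
  have h1 := det_mul_comm (fromBlocks 1 (-P) 0 1) (fromBlocks M (P * N) (-Z) N)
  rw [fromBlocks_multiply, fromBlocks_multiply] at h1
  simp only [Matrix.one_mul, Matrix.mul_one, Matrix.zero_mul, Matrix.mul_zero, Matrix.neg_mul, Matrix.mul_neg, neg_neg, h,
    add_neg_cancel, neg_add_cancel, add_zero, zero_add, det_fromBlocks_zero₁₂] at h1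
  rw [h1, add_comm]

theorem exists_Z (T : Tr P Φ Ψ) {w : Mat R} {V : Mat I} (hw : w ∈ WW Ψ) (h : w * P = P * V) :
    ∃ Z : Matrix I R ℤ, w = 1 + P * Z ∧ V = 1 + Z * P := by
  choose β hβ using T.sub_mem hw
  have h1 : w = 1 + P * (of fun j => β (Pi.single j 1))ᵀ := ext_of_mulVec_single fun j => by
    rw [hβ, add_mulVec, one_mulVec, ← mulVec_mulVec, mulVec_single_one]
    rfl
  refine ⟨_, h1, T.cancel ?_⟩
  rw [← h, Matrix.mul_add, Matrix.mul_one, ← Matrix.mul_assoc]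
  conv_lhs => rw [h1, Matrix.add_mul, Matrix.one_mul]

theorem det_w (T : Tr P Φ Ψ) {w : Mat R} {V : Mat I} (hw : w ∈ WW Ψ) (h : w * P = P * V) : w.det = V.det := by
  obtain ⟨Z, rfl, rfl⟩ := exists_Z T hw h
  exact det_one_add_mul_comm _ _

theorem det_tr (T : Tr P Φ Ψ) {w : Mat R} {V : Mat I} (hw : w ∈ WW Ψ) (h : w * P = P * V) (hA : A' * P = P * A) :
    (w * A' - 1).det * (A - 1).det = (A' - 1).det * (V * A - 1).det := by
  obtain ⟨Z, rfl, rfl⟩ := exists_Z T hw h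
  have h1 := det_blk (M := A' - 1) (N := A - 1) (P := P)
    (by rw [Matrix.sub_mul, Matrix.mul_sub, hA, Matrix.one_mul, Matrix.mul_one]) (Z * A')
  rw [Matrix.mul_assoc Z, hA] at h1
  simpa only [add_mul, one_mul, add_sub_right_comm, Matrix.mul_assoc] using h1

/-- the projection of an eigenvector -/
theorem eig_dn (T : Tr P (Rc C) Ψ) (H : Cu.Rs C d) (h : A' * P = P * A) (hn : Nm A' Ψ) {μ : ℂ} {y' : R → ℂ} (h1 : IsE A' μ y') :
    ∃ y, IsE A μ y ∧ ∀ c ∈ Ψ, ev (c.1 ᵥ* P) y = ev c.1 y' := by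
  obtain ⟨y, hy⟩ := T.dec H y'
  have h3 : ∀ c ∈ Ψ, ev (c.1 ᵥ* P) y = ev c.1 y' := fun c hc => by
    have := hy c hc
    rw [TrL.ev_sub, TrL.ev_rect] at this
    exact (sub_eq_zero.1 this).symm
  refine ⟨y, sub_eq_zero.1 (H.topC _ fun a' ha' => ?_), h3⟩
  obtain ⟨a'', ha'', h5, h6⟩ := TrL.nm_surj H (T.nm_dn h hn) a' ha'
  obtain ⟨c', hc', h7, h8⟩ := T.up a' ha'
  obtain ⟨c'', hc'', h9, h10⟩ := T.up a'' ha''
  obtain ⟨c, hc, h11, h12⟩ := hn c'' hc''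
  obtain rfl := T.ext c hc c' hc' (by rw [← h11, ← h9, mulVec_mulVec, h, ← mulVec_mulVec, h5, h7])
  rw [TrL.ev_sub, TrL.ev_smul, ev_mul, h6, ← h10, ← h8, h3 _ hc'', h3 _ hc, ← h12, ← ev_mul, h1, TrL.ev_smul, sub_self]

end Tr

end Cfsg.Agent.BZ.RT.Co2
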