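import Cfsg.Agent.BZ.RT.Co2.Defs
import Cfsg.Agent.BZ.RT.Z2E
import Cfsg.Agent.BZ.RT.Z2Rk

/-!
# BZ / RT (S4853) : the component `E₇` is stable (helper31)
-/

set_option autoImplicit false

namespace Cfsg.Agent.BZ.RT.Co2

open Cfsg Matrix Cfsg.Agent.DL Cfsg.Agent.HZ.L Cfsg.Agent.OM.Cu Cfsg.Agent.BZ.RT.Z2

/-- **[N]** -/
theorem boxN : BoxN := by
  intro R _ _ P Ψ₁ β A T h2 h0 hA
  have c7 := boxRk.c7
  have H := boxRs _ _ c7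
  have k0 : ∀ b ∈ Ψ₁, b.1 ⬝ᵥ b.2 = 2 := fun b hb => by
    obtain ⟨a, ha, a1, a2⟩ := T.dn b hb
    rw [← a1, dotProduct_mulVec, a2, H.two a ha]
  have k1 : ∀ b ∈ Ψ₁, ∃ b' ∈ Ψ₁, b.1 ⬝ᵥ b'.2 = -1 := fun b hb => by
    obtain ⟨a, ⟨w, hw, i, -, e⟩, -, a2⟩ := T.dn b hb
    obtain ⟨j, hj⟩ := (by decide : ∀ i, ∃ j, E7 j i = -1) i
    obtain ⟨x, hx, x1, -⟩ := H.nm w hw _ (H.mem j)
    obtain ⟨b', hb', e', -⟩ := T.up x hx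
    refine ⟨b', hb', ?_⟩
    rw [← e', dotProduct_mulVec, a2, ← x1, dotProduct_mulVec, e, ← hj]
    simp [sp]
  have k2 : ∀ x ∈ Ψ₁ ∪ {β, -β}, β.1 ⬝ᵥ x.2 = 0 ∨ β.1 ⬝ᵥ x.2 = 2 ∨ β.1 ⬝ᵥ x.2 = -2 := by
    rintro x (h | rfl | rfl)
    exacts [.inl (h0 x h).2, .inr (.inl h2), .inr (.inr (by rw [Prod.snd_neg, dotProduct_neg, h2]))]
  have n1 : Nm A Ψ₁ := fun a ha => by
    obtain ⟨a', h1, h3, h4⟩ := hA a (.inl ha)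
    refine ⟨a', h1.resolve_right fun h5 => ?_, h3, h4⟩
    obtain ⟨b, hb, e⟩ := k1 a ha
    obtain ⟨b', h6, h7, -⟩ := hA b (.inl hb)
    rw [← h4, ← dotProduct_mulVec, h7] at e
    have := k2 b' h6
    rcases h5 with rfl | rfl
    · omega
    · rw [Prod.fst_neg, neg_dotProduct] at e
      omega
  refine ⟨n1, fun a ha => ?_⟩
  obtain ⟨a', h1, h3, h4⟩ := hA a (.inr ha)
  refine ⟨a', h1.resolve_left fun h5 => ?_, h3, h4⟩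
  obtain ⟨b, hb, -, e⟩ := E8q.surj T c7 n1 h5
  have h6 := k0 b hb
  have h7 := (h0 b hb).2
  rw [← e, h4] at h6
  rcases ha with rfl | rfl
  · omega
  · rw [Prod.fst_neg, neg_dotProduct] at h6
    omega

end Cfsg.Agent.BZ.RT.Co2
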