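import Cfsg.Agent.BZ.RT.Co2.E
import Cfsg.Agent.BZ.RT.EigT

/-!
# BZ / RT (S4853) : the terminal case for the prime two, transport (helper94)

`boxT_of`.
-/

set_option autoImplicit false
set_option linter.unusedSectionVars false
set_option maxHeartbeats 400000

namespace Cfsg.Agent.BZ.RT.Co2

open Cfsg Matrix Cfsg.Agent.DL Cfsg.Agent.DL.PP Cfsg.Agent.KZ.Lie Cfsg.Agent.HZ.Gen Cfsg.Agent.HZ.L Cfsg.Agent.OM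
  Cfsg.Agent.OM.Cu Cfsg.Agent.BZ.RT.At Cfsg.Agent.BZ.RT.Z2 Cfsg.Agent.DL.Uni
open Cfsg.Agent.LV.Lab (tc_self')

variable {p : ℕ} [Fact p.Prime] {k : Type} [Field k] [CharP k p] [IsAlgClosed k] {Y : Type} [Group Y] {N : Type}
  [Fintype N] [DecidableEq N] {ρ : Y →* GL N k} {F : MulAut Y} {G : Subgroup Y} {D : Datum p ρ F G}
  {j : ℕ} {B : Mat D.R} {P : Matrix D.R (Fin 7) ℤ} {Ψ₀ Ψ₁ : RS D.R} {w₀ v v' w w' : D.W} {μ : ℤˣ} {y g : D.W → ℂ}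
  {X₁ X X' V V' : Mat (Fin 7)}

variable (D) in
/-- the frame -/
structure Fm (j : ℕ) (B : Mat D.R) (P : Matrix D.R (Fin 7) ℤ) (Ψ₀ Ψ₁ : RS D.R) (w₀ : D.W) (μ : ℤˣ) (X₁ : Mat (Fin 7)) : Prop where
  st : St D j B
  sub : Ψ₁ ⊆ rts D
  tr : Tr P (Rc E7) Ψ₁
  t6 : Tr P P6 Ψ₀
  s6 : Ψ₀ ⊆ Ψ₁
  nm : Nm (D.Wm w₀ * B) Ψ₁
  x1 : X₁ ∈ WW P6
  eq : D.Wm w₀ * B * P = P * ((μ : ℤ) • X₁)

/-- `v` lies over `V` -/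
structure Ov (P : Matrix D.R (Fin 7) ℤ) (Ψ₁ : RS D.R) (v : D.W) (V : Mat (Fin 7)) : Prop where
  m : v ∈ Hs D Ψ₁
  w : V ∈ Wc E7
  e : D.Wm v * P = P * V

/-- the element `w` of the coset lies over `X` -/
def Rl (P : Matrix D.R (Fin 7) ℤ) (Ψ₁ : RS D.R) (w₀ : D.W) (X₁ : Mat (Fin 7)) (w : D.W) (X : Mat (Fin 7)) : Prop :=
  ∃ v V, Ov P Ψ₁ v V ∧ w = v * w₀ ∧ X = V * X₁

/-- the element over `X` -/
noncomputable def up (P : Matrix D.R (Fin 7) ℤ) (Ψ₁ : RS D.R) (w₀ : D.W) (X₁ X : Mat (Fin 7)) : D.W :=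
  Classical.epsilon fun w => Rl P Ψ₁ w₀ X₁ w X

theorem Ov.mul (h : Ov P Ψ₁ v V) (h' : Ov P Ψ₁ v' V') : Ov P Ψ₁ (v * v') (V * V') :=
  ⟨mul_mem h.m h'.m, mul_mem h.w h'.w, by rw [D.Wm_mul, Matrix.mul_assoc, h'.e, ← Matrix.mul_assoc, h.e, Matrix.mul_assoc]⟩

theorem Rl.left (h : Rl P Ψ₁ w₀ X₁ w X) (h' : Ov P Ψ₁ v V) : Rl P Ψ₁ w₀ X₁ (v * w) (V * X) := by
  obtain ⟨x, U, h1, rfl, rfl⟩ := h
  exact ⟨_, _, h'.mul h1, (mul_assoc _ _ _).symm, (mul_assoc _ _ _).symm⟩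

theorem canc (h : V ∈ Wc E7) (e : X * V = X' * V) : X = X' := by
  obtain ⟨u, -, -, h1⟩ := r7.inv V h
  rw [← mul_one X, ← h1, ← mul_assoc, e, mul_assoc, h1, mul_one]

theorem ind_cj (hv : v ∈ Hs D Ψ₁) (w : D.W) : ind D Ψ₀ Ψ₁ y (v * w * (D.Fw v)⁻¹) = ind D Ψ₀ Ψ₁ y w := by
  refine congrArg (_ * ·) (Eq.trans (finsum_congr fun x => congrArg y ?_)
    (finsum_comp_equiv (f := fun x : Hs D Ψ₁ => y (x * w * (D.Fw x)⁻¹)) (Equiv.mulRight (⟨v, hv⟩ : Hs D Ψ₁))))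
  show _ = x * v * w * (D.Fw (x * v))⁻¹
  rw [map_mul]
  group

theorem ind_ne (h : ind D Ψ₀ Ψ₁ y w ≠ 0) : ∃ v ∈ Hs D Ψ₁, y (v * w * (D.Fw v)⁻¹) ≠ 0 := by
  by_contra e
  exact h (mul_eq_zero_of_right _ (finsum_eq_zero_of_forall_eq_zero fun v => not_not.1 fun e' => e ⟨v, v.2, e'⟩))

theorem fin_const {W : Type} [Group W] [Finite W] (H : Subgroup W) {g : W → ℂ} {c : ℂ} (h : ∀ v ∈ H, g v = c) :
    ∑ᶠ v ∈ (H : Set W), g v = Nat.card H * c := by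
  have := Fintype.ofFinite H
  refine (finsum_set_coe_eq_finsum_mem (H : Set W)).symm.trans ((finsum_eq_sum_of_fintype fun v : H => g v).trans ?_)
  rw [Finset.sum_congr rfl fun (v : H) _ => h v v.2, Finset.sum_const, Finset.card_univ, nsmul_eq_mul, Nat.card_eq_fintype_card]

namespace Fm

variable (H : Fm D j B P Ψ₀ Ψ₁ w₀ μ X₁)
include H

theorem ov_up (h : V ∈ Wc E7) : ∃ v, Ov P Ψ₁ v V := by
  obtain ⟨_, h1, h2⟩ := H.tr.ww_up (r7.ww.ge h)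
  obtain ⟨v, rfl⟩ := mem_WW.1 (WW_mono H.sub h1)
  exact ⟨v, (mem_Hs H.sub).2 h1, h, h2⟩

theorem ov_dn (h : v ∈ Hs D Ψ₁) : ∃ V, Ov P Ψ₁ v V :=
  let ⟨V, h1, h2⟩ := H.tr.ww_dn ((mem_Hs H.sub).1 h)
  ⟨V, h, r7.ww.le h1, h2⟩

theorem ov_eq (h : Ov P Ψ₁ v V) (h' : Ov P Ψ₁ v' V) : v = v' :=
  D.Wm_injective (H.tr.eq_of r7 ((mem_Hs H.sub).1 h.m) ((mem_Hs H.sub).1 h'.m) (h.e.trans h'.e.symm))

theorem sub0 : Ψ₀ ⊆ rts D := H.s6.trans H.sub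

theorem hs0 (h : v ∈ Hs D Ψ₀) : v ∈ Hs D Ψ₁ := (mem_Hs H.sub).2 (WW_mono H.s6 ((mem_Hs H.sub0).1 h))

theorem ov6 (h : Ov P Ψ₁ v V) : v ∈ Hs D Ψ₀ ↔ V ∈ WW P6 := by
  refine ⟨fun e => ?_, fun e => ?_⟩
  · obtain ⟨U, h1, h2⟩ := H.t6.ww_dn ((mem_Hs H.sub0).1 e)
    rwa [H.tr.cancel (h.e.symm.trans h2)]
  · obtain ⟨u, h1, h2⟩ := H.t6.ww_up e
    rwa [mem_Hs H.sub0, H.tr.eq_of r7 ((mem_Hs H.sub).1 h.m) (WW_mono H.s6 h1) (h.e.trans h2.symm)]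

theorem rl_w (h : Rl P Ψ₁ w₀ X₁ w X) : X ∈ Wc E7 :=
  let ⟨_, _, h1, _, h2⟩ := h
  h2 ▸ mul_mem h1.w (sub6 H.x1)

theorem rl_e (h : Rl P Ψ₁ w₀ X₁ w X) : D.Wm w * B * P = P * ((μ : ℤ) • X) := by
  obtain ⟨v, V, h1, rfl, rfl⟩ := h
  rw [D.Wm_mul, mul_assoc, Matrix.mul_assoc, H.eq, ← Matrix.mul_assoc, h1.e, Matrix.mul_assoc, mul_smul_comm]

theorem up_eq (h : Rl P Ψ₁ w₀ X₁ w X) : up P Ψ₁ w₀ X₁ X = w := by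
  obtain ⟨v, V, h1, h2, h3⟩ := Classical.epsilon_spec (p := fun w => Rl P Ψ₁ w₀ X₁ w X) ⟨w, h⟩
  obtain ⟨v', V', h4, rfl, rfl⟩ := h
  obtain rfl := canc (sub6 H.x1) h3
  exact h2.trans (H.ov_eq h1 h4 ▸ rfl)

theorem rl_up (h : X ∈ Wc E7) : Rl P Ψ₁ w₀ X₁ (up P Ψ₁ w₀ X₁ X) X := by
  obtain ⟨u, h1, h2, -⟩ := r7.inv _ (sub6 H.x1)
  obtain ⟨v, h3⟩ := H.ov_up (mul_mem h h1)
  exact Classical.epsilon_spec (p := fun w => Rl P Ψ₁ w₀ X₁ w X) ⟨_, v, _, h3, rfl, by rw [mul_assoc, h2, mul_one]⟩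

theorem rl_dn (h : v ∈ Hs D Ψ₁) : ∃ X, Rl P Ψ₁ w₀ X₁ (v * w₀) X :=
  let ⟨V, h1⟩ := H.ov_dn h
  ⟨_, v, V, h1, rfl, rfl⟩

theorem rl_cj (h : Rl P Ψ₁ w₀ X₁ w X) (h' : Ov P Ψ₁ v V) : ∃ X', Rl P Ψ₁ w₀ X₁ (v * w * (D.Fw v)⁻¹) X' ∧ V * X = X' * V := by
  obtain ⟨X', h1⟩ : ∃ X', Rl P Ψ₁ w₀ X₁ (v * w * (D.Fw v)⁻¹) X' := by
    obtain ⟨x, U, h1, rfl, -⟩ := h
    refine (congrArg (fun w => ∃ X', Rl P Ψ₁ w₀ X₁ w X') ?_).mp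
      (H.rl_dn (mul_mem (mul_mem h'.m h1.m) (inv_mem (hs_tw H.st H.sub H.nm h'.m))))
    group
  refine ⟨X', h1, smul_right_injective _ μ.ne_zero (H.tr.cancel ?_)⟩
  have h2 := congrArg (· * P) (H.st.tc_iff.1 (tc_self' v w))
  simp only [Matrix.mul_assoc (_ * B), Matrix.mul_assoc (D.Wm v), h'.e, H.rl_e h] at h2
  simp only [← Matrix.mul_assoc, H.rl_e h1, h'.e] at h2
  simpa only [Matrix.mul_assoc, Matrix.mul_smul, Matrix.smul_mul] using h2.symm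

theorem rl6 (h : Rl P Ψ₁ w₀ X₁ w X) : (∃ x ∈ Hs D Ψ₀, w = x * w₀) ↔ X ∈ WW P6 := by
  obtain ⟨v, V, h1, rfl, rfl⟩ := h
  refine ⟨fun ⟨x, h2, h3⟩ => mul_mem ((H.ov6 h1).1 (mul_right_cancel h3 ▸ h2)) H.x1, fun e => ⟨v, (H.ov6 h1).2 ?_, rfl⟩⟩
  obtain ⟨u, h2, -, h3⟩ := WW_inv (fun a (ha : a ∈ P6) => r7.two a ha.1) H.x1
  simpa only [mul_assoc, h3, mul_one] using mul_mem e h2

variable [Fintype D.W]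

theorem cs_eq {Φ : RS (Fin 7)} {Ψ : RS D.R} (T : Tr P Φ Ψ) (e : Φ ⊆ Rc E7) (e' : Ψ ⊆ Ψ₁) (h : Rl P Ψ₁ w₀ X₁ w X) (g : D.W → ℂ) :
    cs (fs D Ψ) g w = Cs Φ (fun X => g (up P Ψ₁ w₀ X₁ X)) X := by
  have k : ∀ t ∈ fs D Ψ, ∃ a ∈ Φ, Ov P Ψ₁ t (rfm a) ∧ TrL.dn P (D.Wm t) = rfm a := fun t ht => by
    obtain ⟨b, hb, h1⟩ := mem_fs.1 ht
    obtain ⟨a, ha, h2, h3⟩ := T.dn b hb
    have h4 := h1 ▸ TrL.rfm_mul h2 h3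
    exact ⟨a, ha, ⟨Subgroup.subset_closure ⟨b, e' hb, h1⟩, RsP.r_mem Rk47.c7 (e ha), h4⟩, T.dn_eq h4⟩
  rw [cs_apply, ← finsum_mem_coe_finset]
  refine finsum_mem_eq_of_bijOn (fun t => TrL.dn P (D.Wm t)) ⟨fun t ht => ?_, fun t ht t' ht' h1 => ?_, ?_⟩ fun t ht => ?_
  · obtain ⟨a, ha, -, h1⟩ := k t ht
    exact ⟨a, ha, h1.symm⟩
  · obtain ⟨a, -, h2, h3⟩ := k t ht
    obtain ⟨a', -, h4, h5⟩ := k t' ht'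
    exact H.ov_eq h2 ((h5.symm.trans (h1.symm.trans h3)) ▸ h4)
  · rintro _ ⟨a, ha, rfl⟩
    obtain ⟨b, hb, h2, h3⟩ := T.up a ha
    obtain ⟨t, h4⟩ := mem_WW.1 (rfm_mem (H.sub (e' hb)))
    exact ⟨t, mem_fs.2 ⟨b, hb, h4⟩, T.dn_eq (h4 ▸ TrL.rfm_mul h2 h3)⟩
  · obtain ⟨a, -, h2, h3⟩ := k t ht
    simp only [h3, H.up_eq (h.left h2)]

theorem cs_sup (h : ∀ w, g w ≠ 0 → ∃ x ∈ Hs D Ψ₁, w = x * w₀) (w : D.W) (e : cs (fs D Ψ₁) g w ≠ 0) : ∃ x ∈ Hs D Ψ₁, w = x * w₀ := by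
  obtain ⟨t, h1, h2⟩ := Finset.exists_ne_zero_of_sum_ne_zero (cs_apply _ g w ▸ e)
  obtain ⟨x, h3, h4⟩ := h _ h2
  exact ⟨_, mul_mem (inv_mem (Subgroup.subset_closure (mem_fs.1 h1))) h3, by rw [mul_assoc, ← h4, inv_mul_cancel_left]⟩

variable (hy : Hd D B Ψ₀ w₀ μ y)
include hy

theorem n_eig (h : Rl P Ψ₁ w₀ X₁ w X) (e : y w ≠ 0) : ¬ Eig P6 X 1 := fun ⟨z, h1, h2⟩ =>
  (hy.sup w e).2 (H.t6.eig_up (H.rl_e h) ⟨z, by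
    rw [IsE, show ((μ : ℤ) • X).map (Int.cast : ℤ → ℂ) = ((μ : ℤ) : ℂ) • X.map (Int.cast : ℤ → ℂ) from
      Matrix.ext fun _ _ => Int.cast_mul _ _, smul_mulVec, h1, one_smul], h2⟩)

theorem sup (w : D.W) (h : ind D Ψ₀ Ψ₁ y w ≠ 0) : ∃ x ∈ Hs D Ψ₁, w = x * w₀ := by
  obtain ⟨v, h1, h2⟩ := ind_ne h
  obtain ⟨x, h3, h4⟩ := (hy.sup _ h2).1
  refine ⟨_, mul_mem (mul_mem (inv_mem h1) (H.hs0 h3)) (hs_tw H.st H.sub H.nm h1), ?_⟩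
  rw [mul_assoc, inv_mul_cancel_right, mul_assoc, ← mul_assoc x, ← h4]
  group

theorem top (x : D.W) (hx : x ∈ Hs D Ψ₀) : ind D Ψ₀ Ψ₁ y (x * w₀) = 2 * y (x * w₀) := by
  obtain ⟨U, h1⟩ := H.rl_dn (H.hs0 hx)
  have h2 := (H.rl6 h1).1 ⟨x, hx, rfl⟩
  generalize x * w₀ = w at h1
  obtain ⟨z, h3⟩ := H.ov_up (smul_wc (-1) (one_mem _))
  rw [Units.val_neg, Units.val_one, neg_one_smul] at h3
  obtain ⟨U', h4, h5⟩ := H.rl_cj h1 h3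
  obtain rfl : U = U' := neg_injective (by simpa using h5)
  have h6 : z⁻¹ * w * D.Fw z = w := by
    conv_lhs => rw [(H.up_eq h1).symm.trans (H.up_eq h4)]
    group
  rw [ind, show ∑ᶠ v : Hs D Ψ₁, y (v * w * (D.Fw v)⁻¹) = _ from finsum_set_coe_eq_finsum_mem (f := fun v => y (v * w * (D.Fw v)⁻¹)) (Hs D Ψ₁ : Set D.W),
    finsum_mem_inter_support_eq' _ _ ((Hs D Ψ₀ : Set D.W) ∪ (· * z⁻¹) '' (Hs D Ψ₀ : Set D.W)) fun v h7 => ⟨fun h8 => ?_, ?_⟩,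
    finsum_mem_union ?_ (Set.toFinite _) (Set.toFinite _), finsum_mem_image (mul_left_injective _).injOn,
    fin_const _ fun v hv => hy.cj v hv w, fin_const (c := y w) _ fun v hv => ?_, ← two_mul, mul_left_comm,
    inv_mul_cancel_left₀ (Nat.cast_ne_zero.2 Nat.card_pos.ne')]
  · rw [← hy.cj v hv w, map_mul, map_inv]
    conv_rhs => rw [← h6]
    congr 1
    group
  · refine Set.disjoint_left.2 ?_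
    rintro _ h7 ⟨v, h8, rfl⟩
    exact neg6 ((H.ov6 h3).1 (inv_mem_iff.1 ((mul_mem_cancel_left h8).1 h7)))
  · obtain ⟨V, h9⟩ := H.ov_dn h8
    obtain ⟨X', k1, k2⟩ := H.rl_cj h1 h9
    obtain ⟨ε, k3⟩ := line' h9.w h2 k2 (H.n_eig hy k1 h7)
    rcases Int.units_eq_one_or ε with rfl | rfl
    · exact .inl ((H.ov6 h9).2 (by simpa using k3))
    · exact .inr ⟨v * z, (H.ov6 (h9.mul h3)).2 (by simpa using k3), mul_inv_cancel_right _ _⟩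
  · rintro (h8 | ⟨v, h8, rfl⟩)
    · exact H.hs0 h8
    · exact mul_mem (H.hs0 h8) (inv_mem h3.m)

theorem h7 : H7 fun X => ind D Ψ₀ Ψ₁ y (up P Ψ₁ w₀ X₁ X) := by
  refine ⟨fun u hu A hA => ?_, fun A hA e => ?_, fun u hu e => ?_⟩
  · obtain ⟨v, h1⟩ := H.ov_up hu
    obtain ⟨X', h2, h3⟩ := H.rl_cj (H.rl_up (mul_mem hA hu)) h1
    rw [canc hu ((mul_assoc _ _ _).trans h3), H.up_eq h2, ind_cj h1.m]
  · obtain ⟨v, h1, h2⟩ := ind_ne e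
    obtain ⟨V, h3⟩ := H.ov_dn h1
    obtain ⟨X', h4, h5⟩ := H.rl_cj (H.rl_up hA) h3
    exact ⟨V, h3.w, X', (H.rl6 h4).1 (hy.sup _ h2).1, H.n_eig hy h4 h2, h5⟩
  · have h1 := H.rl_up (sub6 hu)
    obtain ⟨x, h2, h3⟩ := (H.rl6 h1).2 hu
    obtain ⟨κ, h4⟩ := hy.eig
    have h5 := congrFun h4 (x * w₀)
    rw [cs_apply, Pi.smul_apply, not_not.1 fun e' => H.n_eig hy (h3 ▸ h1) e' e, smul_zero] at h5
    rw [← H.cs_eq H.t6 (fun _ h => h.1) H.s6 h1, h3, cs_apply, Finset.sum_congr rfl fun t ht => by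
      rw [← mul_assoc, H.top hy _ (mul_mem (Subgroup.subset_closure (mem_fs.1 ht)) h2), mul_assoc t], ← Finset.mul_sum, h5, mul_zero]

theorem ce (hP : BoxP7) (hO : BoxO7) : Ce D Ψ₀ Ψ₁ w₀ y := by
  have k := hP _ (H.h7 hy)
  have c1 := fun {w X} (h : Rl P Ψ₁ w₀ X₁ w X) => H.cs_eq H.tr subset_rfl subset_rfl h
  have k1 : ∀ w, ind D Ψ₀ Ψ₁ y w ≠ 0 → sg D w = ((X₁.det : ℤ) : ℂ)⁻¹ * sg D w₀ := fun w e => by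
    obtain ⟨x, h1, rfl⟩ := H.sup hy w e
    obtain ⟨V, h2⟩ := H.ov_dn h1
    have h3 : Rl P Ψ₁ w₀ X₁ _ _ := ⟨x, V, h2, rfl, rfl⟩
    have h4 := (k _ (H.rl_w h3)).2.1 (by rwa [H.up_eq h3])
    rw [sg_mul, sg, det_w H.tr ((mem_Hs H.sub).1 h1) h2.e, eq_inv_of_mul_eq_one_left
      (show ((V.det : ℤ) : ℂ) * (X₁.det : ℤ) = 1 by rw [← Int.cast_mul, ← det_mul, h4, Int.cast_one])]
  refine ⟨H.sup hy, funext fun w => ?_, ⟨_, k1⟩, H.top hy, fun x hx => ?_, fun e => ?_⟩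
  · by_cases e : ∃ x ∈ Hs D Ψ₁, w = x * w₀
    · obtain ⟨x, h1, rfl⟩ := e
      obtain ⟨X, h2⟩ := H.rl_dn h1
      rw [c1 h2, Pi.smul_apply, ← H.up_eq h2, smul_eq_mul, ← (k X (H.rl_w h2)).1]
      refine finsum_mem_congr rfl ?_
      rintro _ ⟨a, ha, rfl⟩
      exact c1 (H.rl_up (mul_mem (RsP.r_mem Rk47.c7 ha) (H.rl_w h2))) _
    · rw [Pi.smul_apply, not_not.1 (mt (H.sup hy w) e), not_not.1 (mt (H.cs_sup (H.cs_sup (H.sup hy)) w) e), smul_zero]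
  · obtain ⟨X, h2⟩ := H.rl_dn (H.hs0 hx)
    rw [c1 h2, (k X (H.rl_w h2)).2.2 (det6 ((H.rl6 h2).1 ⟨x, hx, rfl⟩))]
  have q1 : 1 < (p : ℤ) ^ j := one_lt_pow₀ (Nat.one_lt_cast.2 (Fact.out : p.Prime).one_lt) H.st.pos.ne'
  have r0 : Rl P Ψ₁ w₀ X₁ w₀ X₁ := ⟨1, 1, ⟨one_mem _, one_mem _, by rw [D.Wm_one, Matrix.one_mul, Matrix.mul_one]⟩,
    (one_mul _).symm, (one_mul _).symm⟩
  obtain ⟨n, n0, hn⟩ := H.st.fin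
  have hB := (Et.form n0 hn).2
  have k2 : ∀ w, ((((p : ℤ) ^ j • (D.Wm w * B) - 1).det : ℤ) : ℂ) = (B.det : ℤ) * sg D w * ordT D w := fun w => by
    have h1 := Et.cp_lev (zero_lt_one.trans q1) H.st.mx hB w
    rw [Polynomial.eval_mul, Polynomial.eval_C, Cas.Eig.cp_eval] at h1
    rw [mul_assoc, sg_eq, ← Int.cast_natCast (ordT D w), ← Int.cast_mul, ← h1, ← Int.cast_mul, ← mul_assoc, hB, one_mul]
  have k3 : ∀ w, ((B.det : ℤ) : ℂ) * sg D w * ((B.det : ℤ) * sg D w) = 1 := fun w => by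
    rw [mul_mul_mul_comm, ← Int.cast_mul, hB, sg_mul_self, Int.cast_one, one_mul]
  refine hO _ (H.h7 hy) ⟨X₁, sub6 H.x1, ?_⟩ ((p : ℤ) ^ j * μ) (by
    rwa [abs_mul, Int.isUnit_iff_abs_eq.1 μ.isUnit, mul_one, abs_of_pos (zero_lt_one.trans q1)]) ?_
  · have h1 := H.top hy 1 (one_mem _)
    rw [one_mul] at h1
    simpa only [H.up_eq r0, h1] using mul_ne_zero two_ne_zero hy.ne
  rw [← mul_zero (sg D w₀ * ordT D w₀ * ((((p : ℤ) ^ j • (μ : ℤ) • X₁ - 1).det : ℤ) : ℂ)⁻¹ * -(((X₁.det : ℤ) : ℂ)⁻¹ * sg D w₀)), ← e,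
    Finset.mul_sum, ← finsum_eq_sum_of_fintype, ← finsum_mem_univ (α := D.W),
    finsum_mem_inter_support_eq' _ Set.univ {w | ∃ x ∈ Hs D Ψ₁, w = x * w₀}
      fun w hw => iff_of_true trivial (H.cs_sup (H.sup hy) w (left_ne_zero_of_mul (right_ne_zero_of_mul hw)))]
  refine finsum_mem_eq_of_bijOn (up P Ψ₁ w₀ X₁) ⟨fun X hX => ?_, fun X hX X' hX' h1 => ?_, ?_⟩ fun X hX => ?_
  · obtain ⟨v, V, h1, h2, -⟩ := H.rl_up hX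
    exact ⟨v, h1.m, h2⟩
  · exact smul_right_injective _ μ.ne_zero (H.tr.cancel ((H.rl_e (H.rl_up hX)).symm.trans (h1 ▸ H.rl_e (H.rl_up hX'))))
  · rintro _ ⟨x, hx, rfl⟩
    obtain ⟨X, h1⟩ := H.rl_dn hx
    exact ⟨X, H.rl_w h1, H.up_eq h1⟩
  have h1 := H.rl_up hX
  rw [← c1 h1]
  generalize up P Ψ₁ w₀ X₁ X = w at h1
  by_cases h2 : cs (fs D Ψ₁) (ind D Ψ₀ Ψ₁ y) w = 0
  · rw [h2, zero_mul, zero_mul, mul_zero]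
  obtain ⟨t, h3, h4⟩ := Finset.exists_ne_zero_of_sum_ne_zero (cs_apply _ _ w ▸ h2)
  have h5 := k1 _ h4
  rw [sg_mul, sg_eq, sg_rs H.sub (mem_fs.1 h3), Int.cast_neg, Int.cast_one, neg_one_mul] at h5
  obtain ⟨v, V, h6, rfl, rfl⟩ := h1
  have h7 := congrArg (Int.cast : ℤ → ℂ) (det_tr H.tr ((mem_Hs H.sub).1 h6.m) h6.e (A' := (p : ℤ) ^ j • (D.Wm w₀ * B))
    (A := (p : ℤ) ^ j • (μ : ℤ) • X₁) (by rw [Matrix.smul_mul, H.eq, Matrix.mul_smul P ((p : ℤ) ^ j)]))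
  rw [mul_smul_comm, ← mul_assoc, ← D.Wm_mul, Int.cast_mul, Int.cast_mul, k2, k2, mul_smul_comm, mul_smul_comm, smul_smul _ _ (V * X₁)] at h7
  have h8 : ∀ w, (ordT D w : ℂ) ≠ 0 := fun w => Nat.cast_ne_zero.2 (ordT_ne w)
  rw [← h5, neg_neg, (inv_mul_eq_iff_eq_mul₀ (mul_ne_zero (left_ne_zero_of_mul_eq_one (k3 w₀)) (h8 w₀))).2 h7 |>.symm, mul_inv, inv_inv,
    mul_inv, mul_inv, inv_eq_of_mul_eq_one_right (k3 _)]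
  have h9 : ((B.det : ℤ) : ℂ) * (B.det : ℤ) = 1 := by rw [← Int.cast_mul, hB, Int.cast_one]
  linear_combination (cs (fs D Ψ₁) (ind D Ψ₀ Ψ₁ y) (v * w₀) * sg D w₀ * ordT D w₀ * sg D (v * w₀) * (ordT D (v * w₀) : ℂ)⁻¹ *
    ((((p : ℤ) ^ j • (μ : ℤ) • X₁ - 1).det : ℤ) : ℂ)⁻¹) * h9

end Fm

/-- **[T]** -/
theorem boxT_of (hP : BoxP7) (hO : BoxO7) (D : Datum p ρ F G) : BoxT D := by
  intro _ j B P Ψ₀ Ψ₁ w₀ μ y h1 h2 T h3 h4 h5 hy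
  have up6 : ∀ a ∈ P6, ∃ b ∈ Ψ₀, P *ᵥ a.2 = b.2 ∧ b.1 ᵥ* P = a.1 := fun a ha =>
    let ⟨b, k1, k2, k3⟩ := T.up a ha.1
    ⟨b, (h3 b).2 ⟨k1, a, ha.1, ha.2, k2⟩, k2, k3⟩
  have dn6 : ∀ b ∈ Ψ₀, ∃ a ∈ P6, P *ᵥ a.2 = b.2 ∧ b.1 ᵥ* P = a.1 := fun b hb =>
    let ⟨k1, _, _, k2, k3⟩ := (h3 b).1 hb
    let ⟨a, k4, k5, k6⟩ := T.dn b k1
    ⟨a, ⟨k4, T.inj' (k3.trans k5.symm) ▸ k2⟩, k5, k6⟩
  have s6 : Ψ₀ ⊆ Ψ₁ := fun b hb => ((h3 b).1 hb).1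
  have T6 : Tr P P6 Ψ₀ := ⟨T.inj, up6, dn6, fun b hb b' hb' => T.ext b (s6 hb) b' (s6 hb'), fun b hb b' hb' => by
    obtain ⟨c, k1, k2, k3⟩ := T.nm b (s6 hb) b' (s6 hb')
    obtain ⟨a, k4, k5, k6⟩ := dn6 b hb
    obtain ⟨a', k7, k8, -⟩ := dn6 b' hb'
    obtain ⟨a'', k9, k10, -⟩ := T.dn c k1
    refine ⟨c, (h3 c).2 ⟨k1, a'', k9, ?_, k10⟩, k2, k3⟩
    rw [T.inj' (k10.trans (by rw [← k2, ← k8, mulVec_mulVec, TrL.rfm_mul k5 k6, ← mulVec_mulVec])), TrL.rfm_vec', Pi.sub_apply,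
      Pi.smul_apply, k7.2, k4.2, smul_zero, sub_zero]⟩
  obtain ⟨X₀, k1⟩ := Gl.exists_B r7 T h4
  obtain ⟨b, k2, k3, k4⟩ := T.up _ (RsP.mem (C := E7) 5)
  obtain ⟨z, k5, k6, k7⟩ := h5 b k2 fun e => by
    obtain ⟨a, k5, k6, -⟩ := dn6 b e
    have k7 := k5.2
    rw [T.inj' (k6.trans k3.symm)] at k7
    exact absurd k7 (by decide)
  obtain ⟨z', k8, k9⟩ := eig_dn T r7 k1 h4 k5
  exact Fm.ce ⟨h1, h2, T, T6, s6, h4, six_of (wc_of_nm (T.nm_dn k1 h4)) k8 (fun a ha => by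
    obtain ⟨c, c1, -, c2⟩ := up6 a ha
    rw [← c2, k9 c (s6 c1), k6 c c1]) (fun e => k7 (by rw [← k9 b k2, e, ev, dotProduct_zero])),
    by rw [smul_smul, Int.units_coe_mul_self, one_smul, k1]⟩ hy hP hO

end Cfsg.Agent.BZ.RT.Co2
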