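import Cfsg.Agent.BZ.RT.Z2D
import Cfsg.Agent.BZ.RT.AtM

/-!
# BZ / RT (S4853) : the terminal case for the prime two, statements (helper94)

* `BoxP7`, `BoxO7` : class functions on `W(E₇)` which live over the elliptic classes of `W(E₆)`;
* `BoxT` : the same inside the Weyl group of a datum;  `BoxN` : the component `E₇` is stable;  `BoxTm7` : the aim.
-/

set_option autoImplicit false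
set_option linter.unusedSectionVars false

namespace Cfsg.Agent.BZ.RT.Co2

open Cfsg Matrix Cfsg.Agent.DL Cfsg.Agent.DL.PP Cfsg.Agent.KZ.Lie Cfsg.Agent.HZ.Gen Cfsg.Agent.HZ.L Cfsg.Agent.OM
  Cfsg.Agent.OM.Cu Cfsg.Agent.BZ.RT.At Cfsg.Agent.BZ.RT.Z2 Cfsg.Agent.DL.Uni

/-- the standard `E₆` -/
def P6 : RS (Fin 7) := {a | a ∈ Rc E7 ∧ a.2 5 = 0}

/-- the sum over the reflections -/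
noncomputable def Cs {R : Type} [Fintype R] [DecidableEq R] (Ψ : RS R) (g : Mat R → ℂ) (A : Mat R) : ℂ := ∑ᶠ ρ ∈ rfm '' Ψ, g (ρ * A)

/-- class functions over the elliptic classes of `W(E₆)` -/
structure H7 (f : Mat (Fin 7) → ℂ) : Prop where
  cj : ∀ u ∈ Wc E7, ∀ A ∈ Wc E7, f (u * A) = f (A * u)
  sup : ∀ A ∈ Wc E7, f A ≠ 0 → ∃ v ∈ Wc E7, ∃ u ∈ WW P6, ¬ Eig P6 u 1 ∧ v * A = u * v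
  rel : ∀ u ∈ WW P6, Eig P6 u 1 → Cs P6 f u = 0

/-- [P7] (table) the eigenvalues are `± 9`, the support is even, the odd part lives on elliptic elements -/
def BoxP7 : Prop := ∀ f, H7 f → ∀ A ∈ Wc E7, Cs (Rc E7) (Cs (Rc E7) f) A = 81 * f A ∧ (f A ≠ 0 → A.det = 1) ∧
  ((A - 1).det = 0 → Cs (Rc E7) f A = 0)

/-- [O7] (table) the odd part has a non zero sum -/
def BoxO7 : Prop := ∀ f, H7 f → (∃ A ∈ Wc E7, f A ≠ 0) → ∀ x : ℤ, 1 < |x| →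
  ∑ᶠ A ∈ (Wc E7 : Set (Mat (Fin 7))), Cs (Rc E7) f A * (((x • A - 1).det : ℤ) : ℂ)⁻¹ ≠ 0

/-- [N] the component `E₇` is stable -/
def BoxN : Prop := ∀ {R : Type} [Fintype R] [DecidableEq R] (P : Matrix R (Fin 7) ℤ) (Ψ₁ : RS R) (β : Vec R × Vec R) (A : Mat R),
  Tr P (Rc E7) Ψ₁ → β.1 ⬝ᵥ β.2 = 2 → (∀ b ∈ Ψ₁, b.1 ⬝ᵥ β.2 = 0 ∧ β.1 ⬝ᵥ b.2 = 0) → Nm A (Ψ₁ ∪ {β, -β}) → Nm A Ψ₁ ∧ Nm A {β, -β}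

variable {p : ℕ} [Fact p.Prime] {k : Type} [Field k] [CharP k p] [IsAlgClosed k] {Y : Type} [Group Y] {N : Type}
  [Fintype N] [DecidableEq N] {ρ : Y →* GL N k} {F : MulAut Y} {G : Subgroup Y} (D : Datum p ρ F G)

/-- the induced function -/
noncomputable def ind (Ψ₀ Ψ₁ : RS D.R) (y : D.W → ℂ) (w : D.W) : ℂ :=
  (Nat.card (Hs D Ψ₀) : ℂ)⁻¹ * ∑ᶠ v : Hs D Ψ₁, y (v * w * (D.Fw v)⁻¹)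

/-- the function on the top coset -/
structure Hd [Fintype D.W] (B : Mat D.R) (Ψ₀ : RS D.R) (w₀ : D.W) (μ : ℤˣ) (y : D.W → ℂ) : Prop where
  sup : ∀ w, y w ≠ 0 → (∃ x ∈ Hs D Ψ₀, w = x * w₀) ∧ ¬ Eig Ψ₀ (D.Wm w * B) ((μ : ℤ) : ℂ)
  cj : ∀ v ∈ Hs D Ψ₀, ∀ w, y (v * w * (D.Fw v)⁻¹) = y w
  eig : ∃ κ : ℂ, cs (fs D Ψ₀) y = κ • y
  ne : y w₀ ≠ 0

/-- **the certificate** -/
structure Ce [Fintype D.W] (Ψ₀ Ψ₁ : RS D.R) (w₀ : D.W) (y : D.W → ℂ) : Prop where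
  sup : ∀ w, ind D Ψ₀ Ψ₁ y w ≠ 0 → ∃ x ∈ Hs D Ψ₁, w = x * w₀
  sq : cs (fs D Ψ₁) (cs (fs D Ψ₁) (ind D Ψ₀ Ψ₁ y)) = (81 : ℂ) • ind D Ψ₀ Ψ₁ y
  par : ∃ ε : ℂ, ∀ w, ind D Ψ₀ Ψ₁ y w ≠ 0 → sg D w = ε
  top : ∀ x ∈ Hs D Ψ₀, ind D Ψ₀ Ψ₁ y (x * w₀) = 2 * y (x * w₀)
  zero : ∀ x ∈ Hs D Ψ₀, cs (fs D Ψ₁) (ind D Ψ₀ Ψ₁ y) (x * w₀) = 0
  odd : ∑ w, cs (fs D Ψ₁) (ind D Ψ₀ Ψ₁ y) w * (ordT D w : ℂ)⁻¹ ≠ 0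

/-- [T] the certificate holds -/
def BoxT : Prop := ∀ [Fintype D.W] (j : ℕ) (B : Mat D.R) (P : Matrix D.R (Fin 7) ℤ) (Ψ₀ Ψ₁ : RS D.R) (w₀ : D.W) (μ : ℤˣ)
  (y : D.W → ℂ), St D j B → Ψ₁ ⊆ rts D → Tr P (Rc E7) Ψ₁ → (∀ b, b ∈ Ψ₀ ↔ b ∈ Ψ₁ ∧ ∃ a ∈ Rc E7, a.2 5 = 0 ∧ P *ᵥ a.2 = b.2) →
  Nm (D.Wm w₀ * B) Ψ₁ → (∀ a ∈ Ψ₁, a ∉ Ψ₀ → ∃ z, IsE (D.Wm w₀ * B) ((μ : ℤ) : ℂ) z ∧ (∀ b ∈ Ψ₀, ev b.1 z = 0) ∧ ev a.1 z ≠ 0) →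
  Hd D B Ψ₀ w₀ μ y → Ce D Ψ₀ Ψ₁ w₀ y

/-- **the aim** -/
def BoxTm7 : Prop := ∀ j B, Lie.Cq D j B 2 → Tm D j B 2 (T7 (rts D))

end Cfsg.Agent.BZ.RT.Co2
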