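import Cfsg.Agent.BZ.RT.AtU
import Cfsg.Agent.BZ.RT.Co2.Defs
import Cfsg.Agent.OM.Lie.El
import Cfsg.Agent.OM.Lie.LdRt
import Cfsg.Agent.OM.Lie.KbA
import Cfsg.Agent.OM.Cu.Glue

/-!
# BZ / RT (S4853) : the terminal case for the prime two, from the certificate (helper42)
-/

set_option autoImplicit false
set_option linter.unusedSectionVars false
set_option maxHeartbeats 400000

namespace Cfsg.Agent.BZ.RT.Co2

open Cfsg Matrix Cfsg.Agent.DL Cfsg.Agent.DL.PP Cfsg.Agent.KZ.Lie Cfsg.Agent.HZ.Gen Cfsg.Agent.HZ.L Cfsg.Agent.OM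
  Cfsg.Agent.OM.Cu Cfsg.Agent.BZ.RT.At Cfsg.Agent.BZ.RT.Z2 Cfsg.Agent.DL.Uni Cfsg.Agent.OM.On
open Cfsg.Agent.HZ.L.X (Zc)
open Cfsg.Agent.LV.Lab (tc_self')

theorem dl_two {q : ℕ} (h : ¬ 2 ∣ q) : ∃ μ : ℤˣ, IsPrimitiveRoot ((μ : ℤ) : ℂ) (Lie.dl 2 q) := by
  show ∃ μ : ℤˣ, IsPrimitiveRoot ((μ : ℤ) : ℂ) (orderOf (q : ZMod 4))
  rw [← ZMod.natCast_mod q 4]
  rcases (by omega : q % 4 = 1 ∨ q % 4 = 3) with e | e <;> rw [e]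
  · exact ⟨1, by rw [Nat.cast_one, orderOf_one, Units.val_one, Int.cast_one]; exact IsPrimitiveRoot.one⟩
  · exact ⟨-1, by
      rw [orderOf_eq_prime (p := 2) (by decide) (by decide), Units.val_neg, Units.val_one, Int.cast_neg, Int.cast_one]
      exact IsPrimitiveRoot.neg_one 0 (by decide)⟩

variable {p : ℕ} [Fact p.Prime] {k : Type} [Field k] [CharP k p] [IsAlgClosed k] {Y : Type} [Group Y] {N : Type}
  [Fintype N] [DecidableEq N] {ρ : Y →* GL N k} {F : MulAut Y} {G : Subgroup Y} {D : Datum p ρ F G}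
  {j : ℕ} {B : Mat D.R} {c : Lbl D} {s : Sb D} {u : s.E.W} {Ψ₁ : RS D.R}
  [Fintype D.W] [Fintype ↥(GF F G)] {f : Fr D} [Fintype ↥(GF F s.K)] [Fintype s.E.W] {r : ℕ} [Fact r.Prime]
  {P : Subgroup ↥(GF F G)} {ψ : IrrCharacter ↥(GF F s.K)}

theorem ind_J1 [Fintype (Hs D Ψ₁)] : ind D (P1 s c) Ψ₁ (yb f s ψ c) = J1 f s c Ψ₁ ψ :=
  funext fun _ => congrArg (_ * ·) (finsum_eq_sum_of_fintype _)

/-- the certificate in the situation -/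
theorem ce_of (hT : BoxT D) {m n n' : ℕ} {M : Ideal AlgInt} {α : MulAut ↥(GF F G)} {𝔅 : Set (IrrCharacter ↥(GF F G))}
    {β : MulAut ↥(GF F s.K)} {lam : Vec D.R} {b : Set (IrrCharacter ↥(GF F s.K))} (S : Sit j B 2 r m n n' M α 𝔅 P s β lam b)
    (hψ : ψ ∈ b) (hz' : Cz p (rts s.E)) (hc : Has (s.fr f) ψ u c) {Q : Matrix D.R (Fin 7) ℤ} (h1 : Tr Q (Rc E7) Ψ₁)
    (h2 : ∀ b, b ∈ P1 s c ↔ b ∈ Ψ₁ ∧ ∃ a ∈ Rc E7, a.2 5 = 0 ∧ Q *ᵥ a.2 = b.2) (h3 : Ψ₁ ⊆ Zc (rts D) c)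
    (h4 : Nm (D.Wm (s.sw u * s.w) * B) Ψ₁) : Ce D (P1 s c) Ψ₁ (s.sw u * s.w) (yb f s ψ c) := by
  obtain ⟨μ, hμ⟩ := dl_two (q := p ^ j) fun e =>
    S.cq.ne ((Nat.prime_dvd_prime_iff_eq Nat.prime_two Fact.out).1 (Nat.prime_two.dvd_of_dvd_pow e))
  have el := (Lie.boxEl D).tp j B 2 _ M 𝔅 r P s lam b S.tp f
  obtain ⟨κ, hκ⟩ := cas1 (D := s.E) (s.fr f) S.tp.fo.qs ψ.2
  refine hT j B Q _ Ψ₁ _ μ _ S.cq.st (fun _ e => (h3 e).1) h1 h2 h4 (fun a ha hn => ?_)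
    ⟨fun w e => ?_, fun v hv w => ?_, ⟨_, funext fun w => (cs_apply _ _ _).trans (cas_yb (hκ c) w)⟩, (yb_sw f s ψ.1 c u).trans_ne hc⟩
  · obtain ⟨y, k1, k2, k3⟩ := Lie.ld_rt D j B _ r P s lam S.tp.rd S.tp.fo S.tp.rt _ hμ a (h3 ha).1 fun e => hn ⟨e, (h3 ha).2⟩
    refine ⟨y, ?_, fun b hb => k2 b hb.1, k3⟩
    rw [D.Wm_mul, mul_assoc]
    exact (Lie.Kb.isE_iff (s.mem_WW.2 ⟨u, rfl⟩) (V' := D.Wm (s.sw u)⁻¹) (by rw [← D.Wm_mul, inv_mul_cancel, D.Wm_one]) k2).2 k1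
  · obtain ⟨u', rfl, k1⟩ := yb_ne e
    refine ⟨top_mem' hz' hc k1.fx, fun k2 => el ψ hψ u' c k1 _ hμ ?_⟩
    rw [D.Wm_mul, ← s.Wm_eq, mul_assoc] at k2
    exact Cu.Eig.mono k2 fun _ h => h.1
  · obtain ⟨v, rfl⟩ := sw_of hv
    exact (yb_conj S.cq.st S.tp.fo.qs (tc_self' _ w) (rel1 hv)).symm

variable {Γ : Set (IrrCharacter ↥(GF F G))}
  (h : St D j B) (hz : Cz p (rts D)) (hz' : Cz p (rts s.E)) (hu : Hu1 D r) (hs : s.For r P) (h1 : On1 s.E) (hΓ : Cls f r Γ)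
  (hT : Lab.Tight r s.ι P (ψ : GF F s.K → ℂ)) (h0 : ∃ ξ ∈ Γ, classInner (s.rs r P ξ.1) ψ ≠ 0) (hc : Has (s.fr f) ψ u c)

include hz' hc in
theorem top_of [Fintype (Hs D Ψ₁)] (C : Ce D (P1 s c) Ψ₁ (s.sw u * s.w) (yb f s ψ c)) {u' : s.E.W} (e : Fx s.E u' c) :
    J1 f s c Ψ₁ ψ (s.sw u' * s.w) = 2 * classInner ψ.1 (RW (s.fr f) u' c) ∧ cs (fs D Ψ₁) (J1 f s c Ψ₁ ψ) (s.sw u' * s.w) = 0 := by
  obtain ⟨x, hx, k1⟩ := top_mem' hz' hc e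
  rw [← yb_sw, k1, ← ind_J1]
  exact ⟨C.top x hx, C.zero x hx⟩

include h hz hz' hu hs h1 hΓ hT h0 hc in
/-- the case `E₇` -/
theorem caseA (C : Ce D (P1 s c) (Zc (rts D) c) (s.sw u * s.w) (yb f s ψ c)) :
    ∃ ξ ∈ Γ, ∃ ξ' ∈ Γ, ∃ (a a' : ℤ) (J : ℕ), a ^ 2 = 1 ∧ a' ^ 2 = 1 ∧ classInner (s.rs r P ξ.1) ψ = a ∧
      classInner (s.rs r P ξ'.1) ψ = a' ∧ 0 < J ∧ (p ^ j) ^ J ≤ Nat.card ↥(GF F G) ^ 2 ∧
      ξ'.1 1 ^ 4 = ((p ^ j : ℕ) : ℂ) ^ J * ξ.1 1 ^ 4 := by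
  have := Fintype.ofFinite (Hs D (Zc (rts D) c))
  have k1 := fun u' => top_of hz' hc C (u' := u')
  have k2 := J1_del (Ψ₁ := Zc (rts D) c) hs h1 hc
  obtain ⟨-, k3, ⟨ε, k4⟩, -, -, k5⟩ := C
  rw [ind_J1] at k3 k4 k5
  have k6 : ε * ε = 1 := k4 _ (((k1 u hc.fx).1).trans_ne (mul_ne_zero two_ne_zero hc)) ▸ sg_mul_self D _
  have k9 := fun K z h2 h3 => coreS h hz hz' hu hs h1 hΓ hT h0 hc (K := K) (z := z) h2 h3 (k₁ := 9) (k₂ := -9) (ε := ε)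
  generalize J1 f s c (Zc (rts D) c) ψ = I at k1 k2 k3 k4 k5 k9
  have k7 : ∀ w, sg D w * I w = ε * I w := fun w => by
    by_cases e : I w = 0
    · rw [e, mul_zero, mul_zero]
    · rw [k4 w e]
  have k8 : ∀ w, sg D w * cs (fs D (Zc (rts D) c)) I w = -ε * cs (fs D (Zc (rts D) c)) I w := fun w => by
    rw [cs_apply, Finset.mul_sum, Finset.mul_sum]
    refine Finset.sum_congr rfl fun t ht => ?_
    have k8 := k7 (t * w)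
    rw [sg_mul, sg_eq D t, sg_rs (X.Zc_sub _ _) (mem_fs.1 ht), Int.cast_neg, Int.cast_one] at k8
    linear_combination -k8
  generalize hI : cs (fs D (Zc (rts D) c)) I = I' at k1 k3 k5 k8
  have k10 : (9 : ℂ) ≠ -9 := by norm_num
  refine k9 {9, -9} (fun k => (2 : ℂ)⁻¹ • I + (k / 162) • I') (fun k hk => ?_) (fun w => ?_) (Finset.mem_insert_self _ _)
    (Finset.mem_insert_of_mem (Finset.mem_singleton_self _)) (fun u' e => ?_) (fun u' e => ?_) k6 (fun w => ?_) fun e => ?_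
  · rw [map_add, map_smul, map_smul, hI, k3]
    rcases Finset.mem_insert.1 hk with rfl | hk
    · module
    · rw [Finset.mem_singleton.1 hk]
      module
  · rw [Finset.sum_pair k10]
    show 2⁻¹ * I w + 9 / 162 * I' w + (2⁻¹ * I w + -9 / 162 * I' w) = I w
    ring
  · show 2⁻¹ * I _ + 9 / 162 * I' _ = _
    rw [(k1 u' e).1, (k1 u' e).2]
    ring
  · show 2⁻¹ * I _ + -9 / 162 * I' _ = _
    rw [(k1 u' e).1, (k1 u' e).2]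
    ring
  · show 2⁻¹ * I w + -9 / 162 * I' w = ε * sg D w * (2⁻¹ * I w + 9 / 162 * I' w)
    linear_combination (-2⁻¹ * ε) * k7 w - (9 / 162 * ε) * k8 w - (2⁻¹ * I w - 9 / 162 * I' w) * k6
  · rw [Finset.sum_congr rfl fun w _ => show sg D w * I w * (ordT D w : ℂ)⁻¹ = ε * (I w * (ordT D w : ℂ)⁻¹) by rw [k7, mul_assoc],
      ← Finset.mul_sum] at k2
    rw [Finset.sum_congr rfl fun w _ => show sg D w * ((2 : ℂ)⁻¹ • I + ((9 : ℂ) / 162) • I') w * (ordT D w : ℂ)⁻¹ =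
        ε * 2⁻¹ * (I w * (ordT D w : ℂ)⁻¹) - ε * (9 / 162) * (I' w * (ordT D w : ℂ)⁻¹) by
      show sg D w * (2⁻¹ * I w + 9 / 162 * I' w) * _ = _
      linear_combination (2⁻¹ * (ordT D w : ℂ)⁻¹) * k7 w + (9 / 162 * (ordT D w : ℂ)⁻¹) * k8 w,
      Finset.sum_congr rfl fun w _ => show ((2 : ℂ)⁻¹ • I + ((9 : ℂ) / 162) • I') w * (ordT D w : ℂ)⁻¹ =
        2⁻¹ * (I w * (ordT D w : ℂ)⁻¹) + 9 / 162 * (I' w * (ordT D w : ℂ)⁻¹) by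
      show (2⁻¹ * I w + 9 / 162 * I' w) * _ = _
      ring, Finset.sum_sub_distrib, Finset.sum_add_distrib] at e
    simp only [← Finset.mul_sum] at e
    refine mul_ne_zero (right_ne_zero_of_mul k2) k5 ?_
    generalize ∑ w, I w * (ordT D w : ℂ)⁻¹ = a at e ⊢
    generalize ∑ w, I' w * (ordT D w : ℂ)⁻¹ = a' at e ⊢
    linear_combination (-9) * e + 9 * (2⁻¹ * a - 9 / 162 * a') ^ 2 * k6

include h hz hz' hu hs h1 hΓ hT h0 hc in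
/-- the case `E₇ A₁` -/
theorem caseB {β : Vec D.R × Vec D.R} (C' : Dec (Zc (rts D) c) Ψ₁ {β, -β} (D.Wm (s.sw u * s.w) * B)) (hb : P1 s c ⊆ Ψ₁)
    (C : Ce D (P1 s c) Ψ₁ (s.sw u * s.w) (yb f s ψ c)) :
    ∃ ξ ∈ Γ, ∃ ξ' ∈ Γ, ∃ (a a' : ℤ) (J : ℕ), a ^ 2 = 1 ∧ a' ^ 2 = 1 ∧ classInner (s.rs r P ξ.1) ψ = a ∧
      classInner (s.rs r P ξ'.1) ψ = a' ∧ 0 < J ∧ (p ^ j) ^ J ≤ Nat.card ↥(GF F G) ^ 2 ∧
      ξ'.1 1 ^ 4 = ((p ^ j : ℕ) : ℂ) ^ J * ξ.1 1 ^ 4 := by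
  classical
  have := Fintype.ofFinite (Hs D Ψ₁)
  have := Fintype.ofFinite (Hs D ({β, -β} : RS D.R))
  have k1 : (fs D ({β, -β} : RS D.R)).card ≤ 2 := (Finset.card_le_card_of_injOn D.Wm (t := {rfm β, rfm (-β)}) (fun t ht => by
    obtain ⟨_, rfl | rfl, e⟩ := mem_fs.1 ht
    exacts [Finset.mem_insert.2 (.inl e), Finset.mem_insert_of_mem (Finset.mem_singleton.2 e)]) D.Wm_injective.injOn).trans
    Finset.card_le_two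
  refine prodG h hz hz' hu hs h1 hΓ hT h0 hc C' hb ⟨β, .inl rfl⟩ (κ₀ := 9) (L := [-9]) (fun k hk => ?_) ?_ fun u' e => ?_
  · have k2 : ((fs D ({β, -β} : RS D.R)).card : ℝ) ≤ 2 := Nat.cast_le.2 k1
    rw [List.mem_singleton.1 hk, show (9 : ℂ) - -9 = (18 : ℕ) by norm_num, Complex.norm_natCast]
    exact (mul_le_mul_of_nonneg_left k2 zero_le_two).trans_lt (by norm_num)
  · rw [qs_cons, qs_cons, qs_nil, map_sub, map_smul, ← ind_J1, C.sq]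
    module
  · show cs _ (J1 f s c Ψ₁ ψ) _ - -9 * J1 f s c Ψ₁ ψ _ = (9 - -9) * 1 * _
    rw [(top_of hz' hc C e).1, (top_of hz' hc C e).2]
    ring

omit [Fintype D.W] [Fintype ↥(GF F G)] in
/-- **the terminal case for the prime two** -/
theorem tm7_of (hN : BoxN) (hT : AllD p fun D => BoxT D) (D : Datum p ρ F G) : BoxTm7 D := by
  intro j B _ M _
  refine Lg.of_forall fun m _ r _ hm _ n₁ n₂ α 𝔅 P s _ β lam b _ S ψ hψ f u c hc ⟨⟨Q, Ψ₁, k1, k2, k3⟩, _⟩ => ?_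
  refine pair_of S hψ f fun Γ hz' hΓ hT' h0 => ?_
  have k4 := Gl.nm_Zc S.cq.st (s.fx_iff.1 hc.fx)
  rcases k3 with rfl | ⟨γ, -, -, k5, k6⟩
  · exact caseA S.cq.st S.cq.cz hz' S.tp.hu S.tp.fo S.on hΓ hT' h0 hc (ce_of (hT _) S hψ hz' hc k1 k2 subset_rfl k4)
  · have k7 : γ ∈ Zc (rts (D.pow hm)) c := k5.ge (.inr (.inl rfl))
    obtain ⟨k8, k9⟩ := hN Q Ψ₁ _ _ k1 (X.rt_two k7.1) k6 (k5 ▸ k4)
    refine caseB S.cq.st S.cq.cz hz' S.tp.hu S.tp.fo S.on hΓ hT' h0 hc ⟨k5, ?_, k8, k9⟩ (fun b hb => ((k2 b).1 hb).1)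
      (ce_of (hT _) S hψ hz' hc k1 k2 (fun b hb => k5.ge (.inl hb)) k8)
    rintro x hx _ (rfl | rfl)
    · exact k6 x hx
    · exact ⟨by rw [Prod.snd_neg, dotProduct_neg, (k6 x hx).1, neg_zero], by rw [Prod.fst_neg, neg_dotProduct, (k6 x hx).2, neg_zero]⟩

end Cfsg.Agent.BZ.RT.Co2
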