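import Cfsg.Agent.BZ.RT.Co2.Defs
import Cfsg.Agent.BZ.RT.Co.E7
import Cfsg.Agent.OM.Cu.Cp

/-!
# BZ / RT (S4853) : the terminal case for the prime two, `boxP7` (helper94)
-/

set_option autoImplicit false
set_option maxRecDepth 100000

namespace Cfsg.Agent.BZ.RT.Co2

open Cfsg Matrix Cfsg.Agent.HZ.L Cfsg.Agent.OM.Cu Cfsg.Agent.BZ.RT.Co

theorem H7.hy {f : Mat (Fin 7) → ℂ} (h : H7 f) : E7.Hy f := ⟨h.cj, h.sup, h.rel⟩

/-- the coefficients of `det (1 - x A)` -/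
def cpL (i : ℕ) : List ℤ :=
  if i = 31 then [1, 0, -1, -1, 1, 1, 0, -1] else if i = 32 then [1, -1, 0, 1, -1, 0, 1, -1] else
    if i = 33 then [1, -2, 3, -3, 3, -3, 2, -1] else [1, 2, 3, 1, -1, -3, -2, -1]

theorem cpL_ok : ∀ i ∈ [31, 32, 33, 46], Cp.cpk T95.tE7 i (cpL i) = true ∧
    (-1) ^ T95.tE7.n * ∑ j ∈ Finset.range (T95.tE7.n + 1), (cpL i).getD j 0 * (-1) ^ j ≠ 0 := by decide +kernel

/-- **[P7]** -/
theorem boxP7 : BoxP7 := fun f h A hA => by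
  refine ⟨h.hy.cas2 hA, h.hy.det hA, fun e => (h.hy.cas hA).trans (mul_eq_zero_of_right _ (by_contra fun h0 => ?_))⟩
  obtain ⟨i, hi, g, hg, e1⟩ := E7.cls (E7.neg_mem hA)
  have h1 := h.hy.cj.conj hg (E7.neg_mem hA) e1 ▸ h0
  have h2 : i ∈ [31, 32, 33, 46] := by
    have h2 := h.hy.five hi h1
    simp only [List.mem_cons, List.not_mem_nil, or_false] at h2 ⊢
    rcases h2 with rfl | rfl | rfl | rfl | rfl
    exacts [.inl rfl, .inr (.inl rfl), .inr (.inr (.inl rfl)), absurd h.hy.vals.2.2.1 h1, .inr (.inr (.inr rfl))]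
  refine (cpL_ok i h2).2 ((Cp.det_eq E7.ok (cpL_ok i h2).1 (-1)).symm.trans ?_)
  rw [E7.aa_eq hi, ← e]
  exact E7.det_conj hg (show ((-1 : ℤ) • E7.xm i - 1) * g = g * (A - 1) by
    rw [neg_one_smul, sub_mul, neg_mul, e1, mul_neg, neg_neg, mul_sub, one_mul, mul_one])

end Cfsg.Agent.BZ.RT.Co2
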